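import Groth.Prelude.Def_DDual2
import Groth.Prelude.Def_QCohCat
import Groth.Agent.FormalExist.BaseChange
import Groth.Agent.KFlat.PullTensor
import Groth.Agent.LimTop.TensorQC
import Groth.Agent.QCoh.Pullback
import Groth.Agent.QCoh.Qcqs

/-!
# Integral functors and flat pullback
-/

set_option autoImplicit false
set_option linter.style.haveILetI false
set_option backward.isDefEq.respectTransparency false

universe u

open CategoryTheory CategoryTheory.Limits AlgebraicGeometry

noncomputable section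

namespace Groth.Agent.FMKernel

variable {Y Z : Scheme.{u}} (f : Z ⟶ Y)

/-- Tensoring with a module commutes with pullback, naturally. -/
def tensorRightPull (K : Y.Modules) :
    DCoh.tensorRightMod K ⋙ Scheme.Modules.pullback f ≅
      Scheme.Modules.pullback f ⋙ DCoh.tensorRightMod ((Scheme.Modules.pullback f).obj K) :=
  NatIso.ofComponents (fun M => KFlat.PullTensor.pullTensorIso f M K)
    fun φ => KFlat.PullTensor.pullTensorIso_left f φ K

/-- Flat base change for direct images of quasi-coherent modules, naturally. -/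
def flatBaseChange {X S S' X' : Scheme.{u}} {π : X ⟶ S} {g : S' ⟶ S} {p : X' ⟶ X} {q : X' ⟶ S'}
    (H : IsPullback p q π g) [QuasiCompact π] [QuasiSeparated π] [Flat g] :
    ObjectProperty.ι (fun M : X.Modules => M.IsQuasicoherent) ⋙ Scheme.Modules.pushforward π ⋙ Scheme.Modules.pullback g ≅
      ObjectProperty.ι (fun M : X.Modules => M.IsQuasicoherent) ⋙ Scheme.Modules.pullback p ⋙ Scheme.Modules.pushforward q :=
  NatIso.ofComponents
    (fun M => haveI := M.property
      haveI := FormalExist.BaseChange.isIso_θ H M.obj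
      asIso (FormalExist.BaseChange.θ H.w M.obj))
    fun φ => FormalExist.BaseChange.θ_natural H.w φ.hom

/-- An integral functor followed by a flat pullback. -/
theorem nonempty_flat_pullback_comp {X P P' Y' : Scheme.{u}} {p₁ : P ⟶ X} {p₂ : P ⟶ Y} {g : Y' ⟶ Y}
    {h : P' ⟶ P} {q₁ : P' ⟶ X} {q₂ : P' ⟶ Y'} (H : IsPullback h q₂ p₂ g) (hq : h ≫ p₁ = q₁)
    [QuasiCompact p₂] [QuasiSeparated p₂] [Flat g] (K : P.Modules) (hK : K.IsQuasicoherent) :
    Nonempty ((ObjectProperty.ι (QCohCat.isQCoh X) ⋙ Scheme.Modules.pullback p₁ ⋙ DCoh.tensorRightMod K ⋙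
        Coh.push p₂) ⋙ Scheme.Modules.pullback g ≅
      ObjectProperty.ι (QCohCat.isQCoh X) ⋙ (Scheme.Modules.pullback q₁ ⋙
        DCoh.tensorRightMod ((Scheme.Modules.pullback h).obj K) ⋙ Coh.push q₂)) := by
  subst hq
  let T : QCohCat.QCoh X ⥤ ObjectProperty.FullSubcategory (fun M : P.Modules => M.IsQuasicoherent) :=
    ObjectProperty.lift _ (ObjectProperty.ι (QCohCat.isQCoh X) ⋙ Scheme.Modules.pullback p₁ ⋙ DCoh.tensorRightMod K)
      fun M => by
        haveI : M.obj.IsQuasicoherent := M.property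
        haveI := hK
        exact LimTop.TensorQC.isQuasicoherent_tensM ((Scheme.Modules.pullback p₁).obj M.obj) K
  let e₁ := T.isoWhiskerLeft (flatBaseChange H)
  let e₂ := (ObjectProperty.ι (QCohCat.isQCoh X) ⋙ Scheme.Modules.pullback p₁).isoWhiskerLeft
    (Functor.isoWhiskerRight (tensorRightPull h K) (Coh.push q₂))
  let e₃ := (ObjectProperty.ι (QCohCat.isQCoh X)).isoWhiskerLeft
    (Functor.isoWhiskerRight (Scheme.Modules.pullbackComp h p₁)
      (DCoh.tensorRightMod ((Scheme.Modules.pullback h).obj K) ⋙ Coh.push q₂))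
  exact ⟨e₁ ≪≫ e₂ ≪≫ e₃⟩

end Groth.Agent.FMKernel

end
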